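import Mathlib.Algebra.MvPolynomial.PDeriv
import Mathlib.Algebra.MvPolynomial.Equiv
import Mathlib.Algebra.MvPolynomial.Expand
import Mathlib.Algebra.MvPolynomial.Funext
import Mathlib.RingTheory.MvPolynomial.Homogeneous
import Mathlib.RingTheory.MvPolynomial.EulerIdentity
import Mathlib.Algebra.Squarefree.Basic
import Mathlib.FieldTheory.IsAlgClosed.Basic
import Mathlib.LinearAlgebra.Dimension.Constructions
import Mathlib.LinearAlgebra.FiniteDimensional.Basic
import Mathlib.Tactic

/-! Singular points of plane curves via lines and conics. -/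

universe u

namespace Groth.Agent.QuarticSing

open MvPolynomial

variable {k : Type u} [Field k]

/-- `v` is a singular zero of `f`. -/
def Sing (f : MvPolynomial (Fin 3) k) (v : Fin 3 → k) : Prop :=
  eval v f = 0 ∧ ∀ i, eval v (pderiv i f) = 0

/-- Pairwise non-proportional, nowhere zero. -/
def Distinct {ι : Type*} (v : ι → Fin 3 → k) : Prop :=
  (∀ i, v i ≠ 0) ∧ ∀ i j, ∀ c : k, v i = c • v j → i = j

lemma Distinct.comp {ι κ : Type*} {v : ι → Fin 3 → k} (h : Distinct v) (e : κ → ι)
    (he : Function.Injective e) : Distinct (v ∘ e) :=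
  ⟨fun i => h.1 _, fun i j c hc => he (h.2 _ _ c hc)⟩

/-- Derivative along a polynomial curve. -/
lemma derivative_aeval (φ : Fin 3 → Polynomial k) (f : MvPolynomial (Fin 3) k) :
    Polynomial.derivative (aeval φ f) =
      ∑ i, Polynomial.derivative (φ i) * aeval φ (pderiv i f) := by
  induction f using MvPolynomial.induction_on with
  | C a => simp
  | add f g hf hg => simp [hf, hg, mul_add, Finset.sum_add_distrib]
  | mul_X f j hf =>
    rw [map_mul, Polynomial.derivative_mul, hf, aeval_X]
    simp only [pderiv_mul, map_add, map_mul, aeval_X, mul_add, Finset.sum_add_distrib,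
      Finset.sum_mul, mul_assoc]
    congr 1
    rw [Finset.sum_eq_single j]
    · rw [pderiv_X_self, map_one, mul_one]; ring
    · intro i _ hi; rw [pderiv_X_of_ne (Ne.symm hi), map_zero, mul_zero, mul_zero]
    · simp

lemma eval_aeval_poly (φ : Fin 3 → Polynomial k) (f : MvPolynomial (Fin 3) k) (t : k) :
    (aeval φ f).eval t = eval (fun i => (φ i).eval t) f := by
  induction f using MvPolynomial.induction_on with
  | C a => simp
  | add f g hf hg => simp [hf, hg]
  | mul_X f j hf => simp [hf]

lemma eval_smul_of_isHomogeneous {σ : Type*} {f : MvPolynomial σ k} {d : ℕ} (hf : f.IsHomogeneous d)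
    (c : k) (v : σ → k) : eval (c • v) f = c ^ d * eval v f := by
  classical
  simp only [eval_eq, Finset.mul_sum]
  refine Finset.sum_congr rfl fun m hm => ?_
  have hd : m.degree = d := by
    rw [Finsupp.degree_eq_weight_one]
    exact hf (mem_support_iff.1 hm)
  simp only [Pi.smul_apply, smul_eq_mul, mul_pow, Finset.prod_mul_distrib,
    Finset.prod_pow_eq_pow_sum]
  rw [← Finsupp.degree_apply, hd]
  ring

lemma Sing.smul {f : MvPolynomial (Fin 3) k} {d : ℕ} (hf : f.IsHomogeneous d) {v : Fin 3 → k}
    (h : Sing f v) (c : k) : Sing f (c • v) :=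
  ⟨by rw [eval_smul_of_isHomogeneous hf, h.1, mul_zero],
    fun i => by rw [eval_smul_of_isHomogeneous hf.pderiv, h.2 i, mul_zero]⟩

/-- Linear substitution. -/
noncomputable def sub (M : (Fin 3 → k) →ₗ[k] Fin 3 → k) :
    MvPolynomial (Fin 3) k →ₐ[k] MvPolynomial (Fin 3) k :=
  aeval fun i => ∑ j, C (M (Pi.single j 1) i) * X j

lemma eval_sub (M : (Fin 3 → k) →ₗ[k] Fin 3 → k) (f : MvPolynomial (Fin 3) k) (v : Fin 3 → k) :
    eval v (sub M f) = eval (M v) f := by
  induction f using MvPolynomial.induction_on with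
  | C a => simp [sub]
  | add f g hf hg => simp [hf, hg]
  | mul_X f j hf =>
    rw [map_mul, map_mul, map_mul, hf]
    congr 1
    rw [sub, aeval_X, eval_X]
    conv_rhs => rw [pi_eq_sum_univ v]
    simp only [map_sum, map_smul, Finset.sum_apply, Pi.smul_apply, smul_eq_mul, map_mul, eval_C,
      eval_X]
    refine Finset.sum_congr rfl fun i _ => ?_
    rw [mul_comm, show (fun j => if i = j then (1 : k) else 0) = Pi.single i 1 from
      funext fun j => by simp [Pi.single_apply, eq_comm]]

lemma pderiv_sub (M : (Fin 3 → k) →ₗ[k] Fin 3 → k) (f : MvPolynomial (Fin 3) k) (j : Fin 3) :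
    pderiv j (sub M f) = ∑ i, C (M (Pi.single j 1) i) * sub M (pderiv i f) := by
  induction f using MvPolynomial.induction_on with
  | C a => simp [sub]
  | add f g hf hg => simp [hf, hg, mul_add, Finset.sum_add_distrib]
  | mul_X f l hf =>
    rw [map_mul, pderiv_mul, hf]
    simp only [pderiv_mul, map_add, map_mul, mul_add, Finset.sum_add_distrib, Finset.sum_mul,
      mul_assoc]
    congr 1
    rw [Finset.sum_eq_single l]
    · rw [pderiv_X_self, map_one, mul_one, sub, aeval_X, map_sum,
        Finset.sum_eq_single j]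
      · simp only [Derivation.leibniz, pderiv_C, pderiv_X_self, smul_eq_mul, mul_zero, add_zero,
          mul_one]
        ring
      · intro i _ hi
        simp [pderiv_X_of_ne hi]
      · simp
    · intro i _ hi; rw [pderiv_X_of_ne (Ne.symm hi), map_zero, mul_zero, mul_zero]
    · simp

lemma Sing.sub {f : MvPolynomial (Fin 3) k} {M : (Fin 3 → k) →ₗ[k] Fin 3 → k} {v : Fin 3 → k}
    (h : Sing f (M v)) : Sing (sub M f) v :=
  ⟨by rw [eval_sub, h.1], fun j => by simp [pderiv_sub, eval_sub, h.2]⟩

lemma sub_isHomogeneous {f : MvPolynomial (Fin 3) k} {d : ℕ} (hf : f.IsHomogeneous d)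
    (M : (Fin 3 → k) →ₗ[k] Fin 3 → k) : (sub M f).IsHomogeneous d := by
  have h := hf.aeval (fun i => ∑ j, C (M (Pi.single j 1) i) * X j) (n := 1) fun i =>
    IsHomogeneous.sum _ _ _ fun j _ => isHomogeneous_C_mul_X _ _
  rwa [one_mul] at h

variable [Infinite k]

lemma sub_squarefree {f : MvPolynomial (Fin 3) k} (hf : Squarefree f)
    (M : (Fin 3 → k) ≃ₗ[k] Fin 3 → k) : Squarefree (sub M.toLinearMap f) := by
  intro g hg
  obtain ⟨h, hh⟩ := hg
  have key : ∀ p : MvPolynomial (Fin 3) k, sub M.symm.toLinearMap (sub M.toLinearMap p) = p :=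
    fun p => MvPolynomial.funext fun v => by simp [eval_sub]
  have key' : ∀ p : MvPolynomial (Fin 3) k, sub M.toLinearMap (sub M.symm.toLinearMap p) = p :=
    fun p => MvPolynomial.funext fun v => by simp [eval_sub]
  have := hf (sub M.symm.toLinearMap g) ⟨sub M.symm.toLinearMap h, by
    rw [← map_mul, ← map_mul, ← hh, key]⟩
  have h2 := this.map (sub M.toLinearMap)
  rwa [key'] at h2

/-- The hypotheses transported by a change of coordinates. -/
lemma transport {f : MvPolynomial (Fin 3) k} {d : ℕ} (hf : f.IsHomogeneous d) (hsq : Squarefree f)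
    {ι : Type*} {v : ι → Fin 3 → k} (hv : Distinct v) (hs : ∀ i, Sing f (v i))
    (M : (Fin 3 → k) ≃ₗ[k] Fin 3 → k) :
    (sub M.toLinearMap f).IsHomogeneous d ∧ Squarefree (sub M.toLinearMap f) ∧
      Distinct (fun i => M.symm (v i)) ∧ ∀ i, Sing (sub M.toLinearMap f) (M.symm (v i)) := by
  refine ⟨sub_isHomogeneous hf _, sub_squarefree hsq M, ⟨fun i h => hv.1 i ?_, fun i j c h => ?_⟩,
    fun i => Sing.sub (by simpa using hs i)⟩
  · simpa using h
  · refine hv.2 i j c ?_
    simpa using congrArg M h

omit [Infinite k] in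
/-- A homogeneous multiple has a homogeneous cofactor. -/
lemma exists_homogeneous_cofactor {Q g : MvPolynomial (Fin 3) k} {a m : ℕ}
    (hQ : Q.IsHomogeneous a) (hf : (Q * g).IsHomogeneous (a + m)) :
    ∃ g', g'.IsHomogeneous m ∧ Q * g = Q * g' := by
  refine ⟨homogeneousComponent m g, homogeneousComponent_isHomogeneous m g, ?_⟩
  have h1 : homogeneousComponent (a + m) (Q * g) = Q * g := by
    rw [homogeneousComponent_of_mem hf, if_pos rfl]
  rw [← h1]
  conv_lhs => rw [← sum_homogeneousComponent g, Finset.mul_sum, map_sum]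
  rw [Finset.sum_eq_single m]
  · rw [homogeneousComponent_of_mem (hQ.mul (homogeneousComponent_isHomogeneous m g)), if_pos rfl]
  · intro i _ hi
    rw [homogeneousComponent_of_mem (hQ.mul (homogeneousComponent_isHomogeneous i g)),
      if_neg (fun h => hi (Nat.add_left_cancel h).symm)]
  · intro hm
    rw [homogeneousComponent_eq_zero m g (by simpa using hm), mul_zero, map_zero]

omit [Infinite k] in
lemma sing_cofactor {Q g : MvPolynomial (Fin 3) k} {v : Fin 3 → k} (h : Sing (Q * g) v) :
    (eval v Q = 0 ∧ (eval v g = 0 ∨ ∀ i, eval v (pderiv i Q) = 0)) ∨ Sing g v := by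
  obtain ⟨h0, h1⟩ := h
  rw [map_mul] at h0
  by_cases hQ : eval v Q = 0
  · refine Or.inl ⟨hQ, ?_⟩
    by_cases hg : eval v g = 0
    · exact Or.inl hg
    refine Or.inr fun i => ?_
    have := h1 i
    simp only [pderiv_mul, map_add, map_mul, hQ, zero_mul, add_zero] at this
    exact (mul_eq_zero.1 this).resolve_right hg
  · have hg := (mul_eq_zero.1 h0).resolve_left hQ
    refine Or.inr ⟨hg, fun i => ?_⟩
    have := h1 i
    simp only [pderiv_mul, map_add, map_mul, hg, mul_zero, zero_add] at this
    exact (mul_eq_zero.1 this).resolve_left hQ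

omit [Infinite k] in
/-- Zeros on a parametrized curve. -/
lemma card_le_natDegree {ι : Type*} [Fintype ι] (φ : Fin 3 → Polynomial k) (f : MvPolynomial (Fin 3) k)
    (hne : aeval φ f ≠ 0) (t : ι → k) (ht : Function.Injective t)
    (hz : ∀ i, eval (fun j => (φ j).eval (t i)) f = 0) :
    Fintype.card ι ≤ (aeval φ f).natDegree := by
  classical
  rw [← Finset.card_univ, ← Finset.card_image_of_injective _ ht]
  refine le_trans (Finset.card_le_card fun x hx => ?_)
    ((Multiset.toFinset_card_le _).trans (Polynomial.card_roots' _))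
  obtain ⟨i, -, rfl⟩ := Finset.mem_image.1 hx
  rw [Multiset.mem_toFinset, Polynomial.mem_roots hne]
  exact (eval_aeval_poly φ f _).trans (hz i)

omit [Infinite k] in
/-- Double zeros on a parametrized curve. -/
lemma two_card_le_natDegree {ι : Type*} [Fintype ι] (φ : Fin 3 → Polynomial k)
    (f : MvPolynomial (Fin 3) k) (hne : aeval φ f ≠ 0) (t : ι → k) (ht : Function.Injective t)
    (hz : ∀ i, Sing f (fun j => (φ j).eval (t i))) :
    2 * Fintype.card ι ≤ (aeval φ f).natDegree := by
  classical
  refine le_trans ?_ (Polynomial.card_roots' _)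
  have hc : ∀ i, 2 ≤ (aeval φ f).roots.count (t i) := by
    intro i
    rw [Polynomial.count_roots]
    refine (Polynomial.one_lt_rootMultiplicity_iff_isRoot hne).2 ⟨?_, ?_⟩
    · exact (eval_aeval_poly φ f _).trans (hz i).1
    · rw [Polynomial.IsRoot, derivative_aeval, Polynomial.eval_finsetSum]
      exact Finset.sum_eq_zero fun j _ => by
        rw [Polynomial.eval_mul, eval_aeval_poly, (hz i).2 j, mul_zero]
  calc 2 * Fintype.card ι = ∑ _i : ι, 2 := by simp [mul_comm]
    _ ≤ ∑ i : ι, (aeval φ f).roots.count (t i) := Finset.sum_le_sum fun i _ => hc i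
    _ = ∑ x ∈ Finset.univ.image t, (aeval φ f).roots.count x :=
        by rw [Finset.sum_image fun a _ b _ h => ht h]
    _ ≤ ∑ x ∈ (Finset.univ.image t) ∪ (aeval φ f).roots.toFinset, (aeval φ f).roots.count x :=
        Finset.sum_le_sum_of_subset Finset.subset_union_left
    _ = (aeval φ f).roots.card := Multiset.sum_count_eq_card fun a ha =>
        Finset.mem_union_right _ (Multiset.mem_toFinset.2 ha)

omit [Infinite k] in
lemma natDegree_aeval_le {f : MvPolynomial (Fin 3) k} {d : ℕ} (hf : f.IsHomogeneous d)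
    (φ : Fin 3 → Polynomial k) (w : ℕ) (hφ : ∀ i, (φ i).natDegree ≤ w) :
    (aeval φ f).natDegree ≤ d * w := by
  classical
  rw [aeval_def, eval₂_eq']
  refine Polynomial.natDegree_sum_le_of_forall_le _ _ fun m hm => ?_
  refine (Polynomial.natDegree_C_mul_le _ _).trans ((Polynomial.natDegree_prod_le _ _).trans ?_)
  have hd : m.degree = d := by
    rw [Finsupp.degree_eq_weight_one]; exact hf (mem_support_iff.1 hm)
  calc ∑ i, ((φ i) ^ m i).natDegree ≤ ∑ i, m i * w := Finset.sum_le_sum fun i _ =>
        Polynomial.natDegree_pow_le.trans (Nat.mul_le_mul_left _ (hφ i))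
    _ = (∑ i, m i) * w := by rw [Finset.sum_mul]
    _ = d * w := by rw [← hd, Finsupp.degree_eq_sum]

/-- The line `x = 0`. -/
noncomputable def lineφ : Fin 3 → Polynomial k := ![0, Polynomial.X, 1]

/-- The conic `x² = yz`. -/
noncomputable def conicφ : Fin 3 → Polynomial k := ![Polynomial.X, Polynomial.X ^ 2, 1]

/-- `x² - yz`. -/
noncomputable def conic : MvPolynomial (Fin 3) k := X 0 ^ 2 - X 1 * X 2

lemma conic_isHomogeneous : (conic (k := k)).IsHomogeneous 2 :=
  (isHomogeneous_X_pow _ _).sub ((isHomogeneous_X k 1).mul (isHomogeneous_X k 2))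

lemma X0_dvd {f : MvPolynomial (Fin 3) k} {d : ℕ} (hf : f.IsHomogeneous d)
    (h : aeval (lineφ (k := k)) f = 0) : X 0 ∣ f := by
  set g := finSuccEquiv k 2 f
  have hg0 : g.coeff 0 = 0 := by
    have key : ∀ w : Fin 2 → k, eval w (g.coeff 0 * X 1) = 0 := by
      intro w
      rcases eq_or_ne (w 1) 0 with hw | hw
      · simp [hw]
      have h1 : eval ![0, w 0 / w 1, 1] f = 0 := by
        have := congrArg (Polynomial.eval (w 0 / w 1)) h
        rw [eval_aeval_poly, Polynomial.eval_zero] at this
        convert this using 3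
        funext i; fin_cases i <;> simp [lineφ]
      have h2 : eval (Fin.cons 0 w) f = 0 := by
        have : (Fin.cons 0 w : Fin 3 → k) = w 1 • ![0, w 0 / w 1, 1] := by
          funext i; fin_cases i <;> simp [mul_div_cancel₀ _ hw] <;> rfl
        rw [this, eval_smul_of_isHomogeneous hf, h1, mul_zero]
      rw [eval_eq_eval_mv_eval', ← Polynomial.coeff_zero_eq_eval_zero, Polynomial.coeff_map] at h2
      rw [map_mul, h2, zero_mul]
    have h0 : g.coeff 0 * X 1 = 0 :=
      MvPolynomial.funext fun w => by rw [key, map_zero]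
    exact (mul_eq_zero.1 h0).resolve_right (X_ne_zero _)
  obtain ⟨q, hq⟩ := Polynomial.X_dvd_iff.2 hg0
  refine ⟨(finSuccEquiv k 2).symm q, (finSuccEquiv k 2).injective ?_⟩
  rw [map_mul, AlgEquiv.apply_symm_apply, finSuccEquiv_X_zero, ← hq]

lemma conic_dvd {f : MvPolynomial (Fin 3) k} {d : ℕ} (hf : f.IsHomogeneous d)
    (h : aeval (conicφ (k := k)) f = 0) : conic ∣ f := by
  classical
  set g := finSuccEquiv k 2 f with hg
  set q : Polynomial (MvPolynomial (Fin 2) k) := Polynomial.X ^ 2 - Polynomial.C (X 0 * X 1)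
  have hq : q.Monic := Polynomial.monic_X_pow_sub_C _ two_ne_zero
  have hqf : finSuccEquiv k 2 conic = q := by
    simp only [conic, map_sub, map_pow, map_mul, finSuccEquiv_X_zero, q]
    rw [show (1 : Fin 3) = Fin.succ 0 from rfl, show (2 : Fin 3) = Fin.succ 1 from rfl,
      finSuccEquiv_X_succ, finSuccEquiv_X_succ]
  set r := g %ₘ q
  have hr : r = Polynomial.C (r.coeff 1) * Polynomial.X + Polynomial.C (r.coeff 0) := by
    refine Polynomial.eq_X_add_C_of_degree_le_one (Polynomial.degree_le_iff_coeff_zero _ _ |>.2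
      fun m hm => Polynomial.coeff_eq_zero_of_degree_lt ?_)
    refine (Polynomial.degree_modByMonic_lt g hq).trans_le ?_
    rw [Polynomial.degree_X_pow_sub_C two_pos]
    exact_mod_cast (Order.add_one_le_iff.2 (by exact_mod_cast hm) : 1 + 1 ≤ m)
  have key : ∀ w : Fin 2 → k,
      eval w (X 1 * (X 0 * X 1 * expand 2 (r.coeff 1) + expand 2 (r.coeff 0))) = 0 := by
    intro w
    rcases eq_or_ne (w 1) 0 with hw | hw
    · simp [hw]
    have h1 : eval ![w 0 / w 1, (w 0 / w 1) ^ 2, 1] f = 0 := by
      have := congrArg (Polynomial.eval (w 0 / w 1)) h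
      rw [eval_aeval_poly, Polynomial.eval_zero] at this
      convert this using 3
      funext i; fin_cases i <;> simp [conicφ]
    have h2 : eval (Fin.cons (w 0 * w 1) (w ^ 2)) f = 0 := by
      have : (Fin.cons (w 0 * w 1) (w ^ 2) : Fin 3 → k) =
          (w 1) ^ 2 • ![w 0 / w 1, (w 0 / w 1) ^ 2, 1] := by
        funext i; fin_cases i
        · simp; field_simp
        · simp [div_pow, mul_div_cancel₀ _ (pow_ne_zero 2 hw)]
        · simp; rfl
      rw [this, eval_smul_of_isHomogeneous hf, h1, mul_zero]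
    rw [eval_eq_eval_mv_eval'] at h2
    have h3 : Polynomial.eval (w 0 * w 1) (r.map (eval (w ^ 2))) = 0 := by
      rw [show r = g - q * (g /ₘ q) from Polynomial.modByMonic_eq_sub_mul_div g q,
        Polynomial.map_sub, Polynomial.map_mul, Polynomial.eval_sub, Polynomial.eval_mul]
      rw [show Polynomial.eval (w 0 * w 1) (g.map (eval (w ^ 2))) = 0 from h2, zero_sub, neg_eq_zero]
      simp [q, mul_pow]
    rw [hr] at h3
    simp only [Polynomial.map_add, Polynomial.map_mul, Polynomial.map_C, Polynomial.map_X,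
      Polynomial.eval_add, Polynomial.eval_mul, Polynomial.eval_C, Polynomial.eval_X] at h3
    simp only [map_mul, map_add, eval_X, eval_expand]
    linear_combination w 1 * h3
  have h0 : X 0 * X 1 * expand 2 (r.coeff 1) + expand 2 (r.coeff 0) = 0 :=
    (mul_eq_zero.1 (MvPolynomial.funext fun w => by rw [key, map_zero] :
      (X 1 : MvPolynomial (Fin 2) k) * _ = 0)).resolve_left (X_ne_zero _)
  have hB : r.coeff 0 = 0 := by
    refine MvPolynomial.ext _ _ fun m => ?_
    have := congrArg (coeff (2 • m)) h0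
    rw [coeff_add, coeff_expand_smul _ two_ne_zero, coeff_zero,
      show (X 0 * X 1 : MvPolynomial (Fin 2) k) =
        monomial (Finsupp.single 0 1 + Finsupp.single 1 1) 1 by
          rw [X, X, monomial_mul, one_mul], coeff_monomial_mul'] at this
    split_ifs at this with hle
    · rw [coeff_expand_of_not_dvd (i := 0), mul_zero, zero_add] at this
      · rw [this, coeff_zero]
      · have := hle 0
        simp at this ⊢
        omega
    · rw [zero_add] at this; rw [this, coeff_zero]
  have hA : r.coeff 1 = 0 := by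
    rw [hB, map_zero, add_zero] at h0
    exact (map_eq_zero_iff _ (expand_injective two_pos)).1
      ((mul_eq_zero.1 h0).resolve_left (mul_ne_zero (X_ne_zero _) (X_ne_zero _)))
  obtain ⟨c, hc⟩ := (Polynomial.modByMonic_eq_zero_iff_dvd hq).1 (show r = 0 by
    rw [hr, hA, hB]; simp)
  refine ⟨(finSuccEquiv k 2).symm c, (finSuccEquiv k 2).injective ?_⟩
  rw [map_mul, AlgEquiv.apply_symm_apply, hqf, ← hg, hc]

end Groth.Agent.QuarticSing
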