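import Groth.Agent.Lib.QuarticSing.Basic

/-! A reduced quartic has at most six singular points. -/

universe u

namespace Groth.Agent.QuarticSing

open MvPolynomial

variable {k : Type u} [Field k]

lemma eval_conic (v : Fin 3 → k) : eval v (conic (k := k)) = v 0 ^ 2 - v 1 * v 2 := by
  simp [conic]

lemma grad_X0 (v : Fin 3 → k) : ¬ ∀ i, eval v (pderiv i (X 0 : MvPolynomial (Fin 3) k)) = 0 := by
  intro h
  simpa using h 0

lemma grad_conic {v : Fin 3 → k} (hv : v ≠ 0) (h0 : eval v (conic (k := k)) = 0) :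
    ¬ ∀ i, eval v (pderiv i (conic (k := k))) = 0 := by
  intro h
  have h1 : v 2 = 0 := by simpa [conic, pderiv_X, Pi.single_apply] using h 1
  have h2 : v 1 = 0 := by simpa [conic, pderiv_X, Pi.single_apply] using h 2
  rw [eval_conic, h1, h2, mul_zero, sub_zero] at h0
  refine hv (funext fun i => ?_)
  fin_cases i
  · exact eq_zero_of_pow_eq_zero h0
  · exact h2
  · exact h1

variable [Infinite k]

lemma dvd_of_sub_dvd (M : (Fin 3 → k) ≃ₗ[k] Fin 3 → k) {Q f : MvPolynomial (Fin 3) k}
    (hQ : ∀ v, eval (M v) Q = eval v Q) (h : Q ∣ sub M.toLinearMap f) : Q ∣ f := by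
  obtain ⟨c, hc⟩ := h
  refine ⟨sub M.symm.toLinearMap c, MvPolynomial.funext fun v => ?_⟩
  have := congrArg (eval (M.symm v)) hc
  simp only [eval_sub, LinearEquiv.coe_coe, LinearEquiv.apply_symm_apply, map_mul] at this
  rw [map_mul, eval_sub, LinearEquiv.coe_coe, this]
  congr 1
  rw [← hQ (M.symm v), LinearEquiv.apply_symm_apply]

/-- Moves the point at infinity of the line `x = 0`. -/
noncomputable def lineMove (c : k) : (Fin 3 → k) ≃ₗ[k] Fin 3 → k where
  toFun v := ![v 0, v 2 - c * v 1, v 1]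
  invFun v := ![v 0, v 2, v 1 + c * v 2]
  map_add' u v := by
    ext i; fin_cases i <;> simp <;> ring
  map_smul' r v := by
    ext i; fin_cases i <;> simp <;> ring
  left_inv v := by ext i; fin_cases i <;> simp
  right_inv v := by ext i; fin_cases i <;> simp

/-- Moves the point at infinity of the conic `x² = yz`. -/
noncomputable def conicMove (c : k) : (Fin 3 → k) ≃ₗ[k] Fin 3 → k where
  toFun v := ![v 0 - c * v 1, v 2 - 2 * c * v 0 + c ^ 2 * v 1, v 1]
  invFun v := ![v 0 + c * v 2, v 2, v 1 + 2 * c * v 0 + c ^ 2 * v 2]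
  map_add' u v := by
    ext i; fin_cases i <;> simp <;> ring
  map_smul' r v := by
    ext i; fin_cases i <;> simp <;> ring
  left_inv v := by ext i; fin_cases i <;> simp <;> ring
  right_inv v := by ext i; fin_cases i <;> simp <;> ring

lemma eval_lineMove (c : k) (v : Fin 3 → k) :
    eval (lineMove c v) (X 0 : MvPolynomial (Fin 3) k) = eval v (X 0) := by
  simp [lineMove]

lemma eval_conicMove (c : k) (v : Fin 3 → k) :
    eval (conicMove c v) (conic (k := k)) = eval v conic := by
  simp [conicMove, eval_conic]; ring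

variable {ι : Type*} [Fintype ι] {f : MvPolynomial (Fin 3) k} {d : ℕ}

/-- Coordinates along the line. -/
lemma exists_line_param {v : ι → Fin 3 → k} (hv : Distinct v)
    (hon : ∀ i, eval (v i) (X 0 : MvPolynomial (Fin 3) k) = 0) :
    ∃ (c : k) (t : ι → k), Function.Injective t ∧
      ∀ i, ∃ r : k, (fun j => (lineφ (k := k) j).eval (t i)) = r • (lineMove c).symm (v i) := by
  classical
  obtain ⟨c, hc⟩ := Infinite.exists_notMem_finset (Finset.univ.image fun i => -(v i 1 / v i 2))
  set w := fun i => (lineMove c).symm (v i) with hw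
  have hw0 : ∀ i, w i 0 = 0 := fun i => by
    simpa [hw, lineMove] using hon i
  have hw2 : ∀ i, w i 2 ≠ 0 := fun i h => by
    have h' : v i 1 + c * v i 2 = 0 := by simpa [hw, lineMove] using h
    by_cases h2 : v i 2 = 0
    · refine hv.1 i (funext fun j => ?_)
      fin_cases j
      · simpa using hon i
      · simpa [h2] using h'
      · exact h2
    · refine hc (Finset.mem_image.2 ⟨i, Finset.mem_univ _, ?_⟩)
      field_simp
      linear_combination -h'
  have hr : ∀ i, (fun j => (lineφ (k := k) j).eval (w i 1 / w i 2)) = (w i 2)⁻¹ • w i := fun i => by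
    funext j
    fin_cases j <;> simp [lineφ, hw0 i, hw2 i, div_eq_inv_mul]
  refine ⟨c, fun i => w i 1 / w i 2, fun i j hij => ?_, fun i => ⟨_, hr i⟩⟩
  refine hv.2 i j (w i 2 / w j 2) ((lineMove c).symm.injective ?_)
  rw [map_smul]
  have h1 := hr i
  rw [show w i 1 / w i 2 = w j 1 / w j 2 from hij, hr j] at h1
  calc w i = w i 2 • ((w i 2)⁻¹ • w i) := (smul_inv_smul₀ (hw2 i) _).symm
    _ = _ := by rw [← h1, smul_smul, div_eq_mul_inv]

/-- Coordinates along the conic. -/
lemma exists_conic_param {v : ι → Fin 3 → k} (hv : Distinct v)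
    (hon : ∀ i, eval (v i) (conic (k := k)) = 0) :
    ∃ (c : k) (t : ι → k), Function.Injective t ∧
      ∀ i, ∃ r : k, (fun j => (conicφ (k := k) j).eval (t i)) = r • (conicMove c).symm (v i) := by
  classical
  obtain ⟨c, hc⟩ := Infinite.exists_notMem_finset (Finset.univ.image fun i => -(v i 0 / v i 2))
  set w := fun i => (conicMove c).symm (v i) with hw
  have hwq : ∀ i, w i 0 ^ 2 = w i 1 * w i 2 := fun i => by
    have h := (eval_conicMove c (w i)).symm
    rw [hw, LinearEquiv.apply_symm_apply, hon i, eval_conic, sub_eq_zero] at h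
    exact h
  have hw2 : ∀ i, w i 2 ≠ 0 := fun i h => by
    have h' : v i 1 + 2 * c * v i 0 + c ^ 2 * v i 2 = 0 := by simpa [hw, conicMove] using h
    have hq : v i 0 ^ 2 - v i 1 * v i 2 = 0 := by simpa [eval_conic] using hon i
    by_cases h2 : v i 2 = 0
    · have h0 : v i 0 = 0 := by
        rw [h2, mul_zero, sub_zero] at hq; exact eq_zero_of_pow_eq_zero hq
      refine hv.1 i (funext fun j => ?_)
      fin_cases j
      · exact h0
      · simpa [h0, h2] using h'
      · exact h2
    · refine hc (Finset.mem_image.2 ⟨i, Finset.mem_univ _, ?_⟩)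
      have : (v i 0 + c * v i 2) ^ 2 = 0 := by linear_combination v i 2 * h' + hq
      have := eq_zero_of_pow_eq_zero this
      field_simp
      linear_combination -this
  have hr : ∀ i, (fun j => (conicφ (k := k) j).eval (w i 0 / w i 2)) = (w i 2)⁻¹ • w i := fun i => by
    funext j
    fin_cases j
    · simp [conicφ, div_eq_inv_mul]
    · have := hw2 i
      simp [conicφ, div_pow, hwq i]
      field_simp
    · simp [conicφ, hw2 i]
  refine ⟨c, fun i => w i 0 / w i 2, fun i j hij => ?_, fun i => ⟨_, hr i⟩⟩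
  refine hv.2 i j (w i 2 / w j 2) ((conicMove c).symm.injective ?_)
  rw [map_smul]
  have h1 := hr i
  rw [show w i 0 / w i 2 = w j 0 / w j 2 from hij, hr j] at h1
  calc w i = w i 2 • ((w i 2)⁻¹ • w i) := (smul_inv_smul₀ (hw2 i) _).symm
    _ = _ := by rw [← h1, smul_smul, div_eq_mul_inv]

omit [Infinite k] in
lemma natDegree_lineφ (i : Fin 3) : (lineφ (k := k) i).natDegree ≤ 1 := by
  fin_cases i <;> simp [lineφ]

omit [Infinite k] in
lemma natDegree_conicφ (i : Fin 3) : (conicφ (k := k) i).natDegree ≤ 2 := by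
  fin_cases i <;> simp [conicφ]

lemma line_factor (hf : f.IsHomogeneous d) {v : ι → Fin 3 → k} (hv : Distinct v)
    (hs : ∀ i, Sing f (v i)) (hon : ∀ i, eval (v i) (X 0 : MvPolynomial (Fin 3) k) = 0)
    (hcard : d < 2 * Fintype.card ι) : X 0 ∣ f := by
  obtain ⟨c, t, ht, hr⟩ := exists_line_param hv hon
  refine dvd_of_sub_dvd (lineMove c) (eval_lineMove c) (X0_dvd (sub_isHomogeneous hf _) ?_)
  by_contra hne
  have h := two_card_le_natDegree _ _ hne t ht fun i => by
    obtain ⟨r, hr⟩ := hr i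
    rw [hr]
    exact (Sing.sub (by simpa using hs i)).smul (sub_isHomogeneous hf _) r
  have h' := natDegree_aeval_le (sub_isHomogeneous hf (lineMove c).toLinearMap) _ 1 natDegree_lineφ
  omega

lemma conic_factor (hf : f.IsHomogeneous d) {v : ι → Fin 3 → k} (hv : Distinct v)
    (hs : ∀ i, Sing f (v i)) (hon : ∀ i, eval (v i) (conic (k := k)) = 0)
    (hcard : d < Fintype.card ι) : conic ∣ f := by
  obtain ⟨c, t, ht, hr⟩ := exists_conic_param hv hon
  refine dvd_of_sub_dvd (conicMove c) (eval_conicMove c) (conic_dvd (sub_isHomogeneous hf _) ?_)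
  by_contra hne
  have h := two_card_le_natDegree _ _ hne t ht fun i => by
    obtain ⟨r, hr⟩ := hr i
    rw [hr]
    exact (Sing.sub (by simpa using hs i)).smul (sub_isHomogeneous hf _) r
  have h' := natDegree_aeval_le (sub_isHomogeneous hf (conicMove c).toLinearMap) _ 2
    natDegree_conicφ
  omega

lemma line_count (hf : f.IsHomogeneous d) (hnd : ¬ X 0 ∣ f) {v : ι → Fin 3 → k} (hv : Distinct v)
    (hs : ∀ i, eval (v i) f = 0) (hon : ∀ i, eval (v i) (X 0 : MvPolynomial (Fin 3) k) = 0) :
    Fintype.card ι ≤ d := by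
  obtain ⟨c, t, ht, hr⟩ := exists_line_param hv hon
  have hne : aeval (lineφ (k := k)) (sub (lineMove c).toLinearMap f) ≠ 0 := fun h =>
    hnd (dvd_of_sub_dvd (lineMove c) (eval_lineMove c) (X0_dvd (sub_isHomogeneous hf _) h))
  have h := card_le_natDegree _ _ hne t ht fun i => by
    obtain ⟨r, hr⟩ := hr i
    rw [hr, eval_smul_of_isHomogeneous (sub_isHomogeneous hf _), eval_sub]
    simp [hs i]
  exact h.trans ((natDegree_aeval_le (sub_isHomogeneous hf _) _ 1 natDegree_lineφ).trans
    (le_of_eq (mul_one d)))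

lemma conic_count (hf : f.IsHomogeneous d) (hnd : ¬ conic ∣ f) {v : ι → Fin 3 → k} (hv : Distinct v)
    (hs : ∀ i, eval (v i) f = 0) (hon : ∀ i, eval (v i) (conic (k := k)) = 0) :
    Fintype.card ι ≤ d * 2 := by
  obtain ⟨c, t, ht, hr⟩ := exists_conic_param hv hon
  have hne : aeval (conicφ (k := k)) (sub (conicMove c).toLinearMap f) ≠ 0 := fun h =>
    hnd (dvd_of_sub_dvd (conicMove c) (eval_conicMove c) (conic_dvd (sub_isHomogeneous hf _) h))
  have h := card_le_natDegree _ _ hne t ht fun i => by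
    obtain ⟨r, hr⟩ := hr i
    rw [hr, eval_smul_of_isHomogeneous (sub_isHomogeneous hf _), eval_sub]
    simp [hs i]
  exact h.trans (natDegree_aeval_le (sub_isHomogeneous hf _) _ 2 natDegree_conicφ)

variable (k) in
/-- At most `N` singular points in degree `d`. -/
def Bound (d N : ℕ) : Prop :=
  ∀ f : MvPolynomial (Fin 3) k, f.IsHomogeneous d → Squarefree f →
    ∀ (n : ℕ) (v : Fin n → Fin 3 → k), Distinct v → (∀ i, Sing f (v i)) → n ≤ N

lemma Bound.card_le {d N : ℕ} (h : Bound k d N) (hf : f.IsHomogeneous d) (hsq : Squarefree f)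
    {v : ι → Fin 3 → k} (hv : Distinct v) (hs : ∀ i, Sing f (v i)) : Fintype.card ι ≤ N :=
  h f hf hsq _ (v ∘ (Fintype.equivFin ι).symm) (hv.comp _ (Equiv.injective _)) fun i => hs _

/-- Splitting off a factor `Q` without singular points. -/
lemma card_le_of_factor {Q : MvPolynomial (Fin 3) k} {a m N B : ℕ} (hQ : Q.IsHomogeneous a)
    (hQu : ¬ IsUnit Q) (hf : f.IsHomogeneous (a + m)) (hsq : Squarefree f) (hdvd : Q ∣ f)
    (hgrad : ∀ v : Fin 3 → k, v ≠ 0 → eval v Q = 0 → ¬ ∀ i, eval v (pderiv i Q) = 0)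
    (hcount : ∀ g : MvPolynomial (Fin 3) k, g.IsHomogeneous m → ¬ Q ∣ g →
      ∀ (n : ℕ) (v : Fin n → Fin 3 → k), Distinct v → (∀ i, eval (v i) g = 0) →
        (∀ i, eval (v i) Q = 0) → n ≤ N)
    (hB : Bound k m B) {v : ι → Fin 3 → k} (hv : Distinct v) (hs : ∀ i, Sing f (v i)) :
    Fintype.card ι ≤ N + B := by
  classical
  obtain ⟨g₀, rfl⟩ := hdvd
  obtain ⟨g, hg, he⟩ := exists_homogeneous_cofactor hQ hf
  rw [he] at hsq hs
  have hgsq : Squarefree g := hsq.squarefree_of_dvd (dvd_mul_left g Q)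
  have hnd : ¬ Q ∣ g := fun h => hQu (hsq Q (mul_dvd_mul_left Q h))
  rw [← Fintype.card_congr (Equiv.sumCompl fun i => eval (v i) Q = 0), Fintype.card_sum]
  refine add_le_add ?_ ?_
  · refine hcount g hg hnd _
      (fun i => v ((Fintype.equivFin {i // eval (v i) Q = 0}).symm i).1)
      (hv.comp _ (Subtype.val_injective.comp (Equiv.injective _))) (fun i => ?_) fun i => ?_
    · set j := (Fintype.equivFin {i // eval (v i) Q = 0}).symm i
      rcases sing_cofactor (hs j.1) with ⟨-, h | h⟩ | h
      · exact h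
      · exact absurd h (hgrad _ (hv.1 _) j.2)
      · exact h.1
    · exact ((Fintype.equivFin {i // eval (v i) Q = 0}).symm i).2
  · refine hB.card_le hg hgsq (v := fun i : {i // ¬ eval (v i) Q = 0} => v i.1)
      (hv.comp _ Subtype.val_injective) fun i => ?_
    rcases sing_cofactor (hs i.1) with ⟨h, -⟩ | h
    · exact absurd h i.2
    · exact h

omit [Infinite k] in
lemma not_isUnit_of_zero {Q : MvPolynomial (Fin 3) k} {v : Fin 3 → k} (h : eval v Q = 0) :
    ¬ IsUnit Q := fun hu => by
  have := hu.map (eval v)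
  rw [h] at this
  exact not_isUnit_zero this

lemma card_le_of_X0_dvd {m B : ℕ} (hf : f.IsHomogeneous (1 + m)) (hsq : Squarefree f)
    (hdvd : X 0 ∣ f) (hB : Bound k m B) {v : ι → Fin 3 → k} (hv : Distinct v)
    (hs : ∀ i, Sing f (v i)) : Fintype.card ι ≤ m + B :=
  card_le_of_factor (isHomogeneous_X k 0)
    (not_isUnit_of_zero (v := (0 : Fin 3 → k)) (by simp)) hf hsq hdvd (fun v _ _ => grad_X0 v)
    (fun g hg hnd n w hw hz hon => by simpa using line_count hg hnd hw hz hon) hB hv hs

lemma card_le_of_conic_dvd {m B : ℕ} (hf : f.IsHomogeneous (2 + m)) (hsq : Squarefree f)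
    (hdvd : conic ∣ f) (hB : Bound k m B) {v : ι → Fin 3 → k} (hv : Distinct v)
    (hs : ∀ i, Sing f (v i)) : Fintype.card ι ≤ m * 2 + B :=
  card_le_of_factor conic_isHomogeneous
    (not_isUnit_of_zero (v := (0 : Fin 3 → k)) (by rw [eval_conic]; simp)) hf hsq hdvd
    (fun v hv0 h0 => grad_conic hv0 h0)
    (fun g hg hnd n w hw hz hon => by simpa using conic_count hg hnd hw hz hon) hB hv hs

omit [Infinite k] in
lemma exists_equiv_of_pair {a b : Fin 3 → k} (h : ∀ c : k, a ≠ c • b) (hb : b ≠ 0) :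
    ∃ M : (Fin 3 → k) ≃ₗ[k] Fin 3 → k, M (Pi.single 1 1) = a ∧ M (Pi.single 2 1) = b := by
  have hab : LinearIndependent k ![a, b] := by
    refine LinearIndependent.pair_iff.2 fun s t hst => ?_
    by_cases hs : s = 0
    · subst hs
      rw [zero_smul, zero_add, smul_eq_zero] at hst
      exact ⟨rfl, hst.resolve_right hb⟩
    · refine absurd ?_ (h (-(t / s)))
      rw [← sub_eq_zero, neg_smul, sub_neg_eq_add]
      have := congrArg (fun x => s⁻¹ • x) hst
      simpa [smul_add, smul_smul, inv_mul_cancel₀ hs, div_eq_inv_mul] using this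
  obtain ⟨x, hx⟩ : ∃ x : Fin 3 → k, x ∉ Submodule.span k (Set.range ![a, b]) := by
    by_contra! hall
    have htop : Submodule.span k (Set.range ![a, b]) = ⊤ := eq_top_iff.2 fun x _ => hall x
    have h3 := (finrank_span_eq_card hab)
    rw [htop, finrank_top, Module.finrank_pi, Fintype.card_fin, Fintype.card_fin] at h3
    omega
  have hli : LinearIndependent k ![x, a, b] := linearIndependent_finCons.2 ⟨hab, hx⟩
  let B := basisOfLinearIndependentOfCardEqFinrank hli (by simp)
  refine ⟨(Pi.basisFun k (Fin 3)).equiv B (Equiv.refl _), ?_, ?_⟩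
  · rw [← Pi.basisFun_apply k (Fin 3) 1, Module.Basis.equiv_apply]
    simp [B]
  · rw [← Pi.basisFun_apply k (Fin 3) 2, Module.Basis.equiv_apply]
    simp [B]

lemma card_le_of_line {m B : ℕ} (hB : Bound k m B) (hf : f.IsHomogeneous (1 + m))
    (hsq : Squarefree f) {v : ι → Fin 3 → k} (hv : Distinct v) (hs : ∀ i, Sing f (v i))
    {r : ℕ} (e : Fin r → ι) (he : Function.Injective e) (hr : 1 + m < 2 * r) (i j : ι)
    (hij : i ≠ j) (hcol : ∀ l, ∃ a b : k, v (e l) = a • v i + b • v j) :
    Fintype.card ι ≤ m + B := by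
  obtain ⟨M, h1, h2⟩ := exists_equiv_of_pair (fun c h => hij (hv.2 i j c h)) (hv.1 j)
  obtain ⟨hf', hsq', hv', hs'⟩ := transport hf hsq hv hs M
  have hon : ∀ l, eval (M.symm (v (e l))) (X 0 : MvPolynomial (Fin 3) k) = 0 := fun l => by
    obtain ⟨a, b, hab⟩ := hcol l
    rw [hab, map_add, map_smul, map_smul, ← h1, ← h2, M.symm_apply_apply, M.symm_apply_apply]
    simp
  refine card_le_of_X0_dvd hf' hsq' ?_ hB hv' hs'
  exact line_factor hf' (hv'.comp e he) (fun l => hs' (e l)) hon (by simpa using hr)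

omit [Infinite k] in
lemma bound_one : Bound k 1 0 := by
  intro f hf hsq n v hv hs
  by_contra hn
  have i : Fin n := ⟨0, by omega⟩
  refine hsq.ne_zero ?_
  have he := hf.sum_X_mul_pderiv
  rw [one_smul] at he
  rw [← he]
  refine Finset.sum_eq_zero fun l _ => ?_
  have h0 : (pderiv l f).IsHomogeneous 0 := hf.pderiv
  rw [← totalDegree_zero_iff_isHomogeneous, totalDegree_eq_zero_iff_eq_C] at h0
  have := (hs i).2 l
  rw [h0, eval_C] at this
  rw [h0, this, map_zero, mul_zero]

lemma bound_two : Bound k 2 1 := by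
  intro f hf hsq n v hv hs
  by_contra hn
  push Not at hn
  have h := card_le_of_line (ι := Fin n) bound_one hf hsq hv hs (Fin.castLE hn)
    (Fin.castLE_injective _) (by norm_num) ⟨0, by omega⟩ ⟨1, by omega⟩ (by simp) fun l => by
      fin_cases l
      · exact ⟨1, 0, by rw [one_smul, zero_smul, add_zero]; rfl⟩
      · exact ⟨0, 1, by rw [one_smul, zero_smul, zero_add]; rfl⟩
  simp at h
  omega

lemma bound_three : Bound k 3 3 := by
  intro f hf hsq n v hv hs
  by_contra hn
  push Not at hn
  have h := card_le_of_line (ι := Fin n) bound_two hf hsq hv hs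
    (Fin.castLE (show 2 ≤ n by omega))
    (Fin.castLE_injective _) (by norm_num) ⟨0, by omega⟩ ⟨1, by omega⟩ (by simp) fun l => by
      fin_cases l
      · exact ⟨1, 0, by rw [one_smul, zero_smul, add_zero]; rfl⟩
      · exact ⟨0, 1, by rw [one_smul, zero_smul, zero_add]; rfl⟩
  simp at h
  omega

/-- Coordinates in which a conic `a xy + b yz + c zx` is `x² = yz`. -/
lemma exists_conic_change [IsAlgClosed k] (a b c : k) (ha : a ≠ 0) (hb : b ≠ 0) (hc : c ≠ 0) :
    ∃ T : (Fin 3 → k) ≃ₗ[k] Fin 3 → k, ∀ v : Fin 3 → k,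
      eval (T v) (conic (k := k)) = -(a * (v 0 * v 1) + b * (v 1 * v 2) + c * (v 2 * v 0)) := by
  obtain ⟨s, hs⟩ := IsAlgClosed.exists_pow_nat_eq (b * c / a) two_pos
  have hs0 : s ≠ 0 := fun h => by
    rw [h, zero_pow two_ne_zero] at hs
    exact div_ne_zero (mul_ne_zero hb hc) ha hs.symm
  refine ⟨{ toFun := fun v => ![s * v 2, a * v 0 + b * v 2, v 1 + c / a * v 2]
            invFun := fun v => ![(v 1 - b * (v 0 / s)) / a, v 2 - c / a * (v 0 / s), v 0 / s]
            map_add' := fun u v => by ext i; fin_cases i <;> simp <;> ring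
            map_smul' := fun r v => by ext i; fin_cases i <;> simp <;> ring
            left_inv := fun v => by
              ext i; fin_cases i <;> simp [ha, hs0] <;> field_simp <;> ring
            right_inv := fun v => by
              ext i; fin_cases i <;> simp [ha, hs0] <;> field_simp <;> ring }, fun v => ?_⟩
  simp [eval_conic, mul_pow, hs]
  field_simp
  ring

lemma bound_four [IsAlgClosed k] : Bound k 4 6 := by
  intro f hf hsq n v hv hs
  classical
  by_contra hn
  push Not at hn
  by_cases hcol : ∃ i j l : Fin n, i ≠ j ∧ i ≠ l ∧ j ≠ l ∧ ∃ a b : k, v l = a • v i + b • v j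
  · obtain ⟨i, j, l, hij, hil, hjl, hab⟩ := hcol
    have h := card_le_of_line (ι := Fin n) bound_three hf hsq hv hs ![i, j, l]
      (fun x y => by
        fin_cases x <;> fin_cases y <;> simp [hij, hil, hjl, hij.symm, hil.symm, hjl.symm])
      (by norm_num) i j hij fun x => by
        fin_cases x
        · exact ⟨1, 0, by simp⟩
        · exact ⟨0, 1, by simp⟩
        · exact hab
    simp at h
    omega
  push Not at hcol
  let p : Fin 5 → Fin n := Fin.castLE (by omega)
  have hp : Function.Injective p := Fin.castLE_injective _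
  have hne : ∀ {x y : Fin 5}, x ≠ y → p x ≠ p y := fun h h' => h (hp h')
  have hli : LinearIndependent k ![v (p 0), v (p 1), v (p 2)] := by
    rw [Fintype.linearIndependent_iff]
    intro g hg
    simp only [Fin.sum_univ_three, Matrix.cons_val_zero, Matrix.cons_val_one,
      Matrix.cons_val_two, Matrix.head_cons, Matrix.tail_cons] at hg
    have h2 : g 2 = 0 := by
      by_contra h2
      refine hcol (p 0) (p 1) (p 2) (hne (by decide)) (hne (by decide)) (hne (by decide))
        (-(g 0 / g 2)) (-(g 1 / g 2)) ?_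
      funext x
      have := congrFun hg x
      simp only [Pi.add_apply, Pi.smul_apply, smul_eq_mul, Pi.zero_apply] at this ⊢
      field_simp
      linear_combination this
    have h1 : g 1 = 0 := by
      by_contra h1
      refine hne (show (1 : Fin 5) ≠ 0 by decide) (hv.2 _ _ (-(g 0 / g 1)) ?_)
      funext x
      have := congrFun hg x
      simp only [h2, Pi.add_apply, Pi.smul_apply, smul_eq_mul, Pi.zero_apply, zero_mul,
        add_zero] at this ⊢
      field_simp
      linear_combination this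
    have h0 : g 0 = 0 := by
      simp only [h1, h2, zero_smul, add_zero, smul_eq_zero] at hg
      exact hg.resolve_right (hv.1 _)
    intro i; fin_cases i <;> assumption
  let B := basisOfLinearIndependentOfCardEqFinrank hli (by simp)
  set M := (Pi.basisFun k (Fin 3)).equiv B (Equiv.refl _)
  have hM : ∀ x : Fin 3, M.symm (![v (p 0), v (p 1), v (p 2)] x) = Pi.single x 1 := by
    intro x
    rw [LinearEquiv.symm_apply_eq, ← Pi.basisFun_apply k (Fin 3) x, Module.Basis.equiv_apply]
    simp [B]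
  set A := M.symm (v (p 3)) with hA
  set C' := M.symm (v (p 4)) with hC
  -- no three collinear, in the new coordinates
  have hnc : ∀ {x y z : Fin 5}, x ≠ y → x ≠ z → y ≠ z → ∀ r t : k,
      M.symm (v (p z)) ≠ r • M.symm (v (p x)) + t • M.symm (v (p y)) := by
    intro x y z hxy hxz hyz r t h
    refine hcol _ _ _ (hne hxy) (hne hxz) (hne hyz) r t (M.symm.injective ?_)
    rw [h, map_add, map_smul, map_smul]
  have e0 : M.symm (v (p 0)) = Pi.single 0 1 := hM 0
  have e1 : M.symm (v (p 1)) = Pi.single 1 1 := hM 1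
  have e2 : M.symm (v (p 2)) = Pi.single 2 1 := hM 2
  have coord : ∀ w : Fin 3 → k, w = w 0 • (Pi.single 0 1 : Fin 3 → k) +
      w 1 • (Pi.single 1 1 : Fin 3 → k) + w 2 • (Pi.single 2 1 : Fin 3 → k) := fun w => by
    funext i; fin_cases i <;> simp
  have A0 : A 0 ≠ 0 := fun h => hnc (x := 1) (y := 2) (z := 3) (by decide) (by decide) (by decide)
    (A 1) (A 2) (by rw [e1, e2, ← hA]; conv_lhs => rw [coord A, h, zero_smul, zero_add])
  have A1 : A 1 ≠ 0 := fun h => hnc (x := 0) (y := 2) (z := 3) (by decide) (by decide) (by decide)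
    (A 0) (A 2) (by rw [e0, e2, ← hA]; conv_lhs => rw [coord A, h, zero_smul, add_zero])
  have A2 : A 2 ≠ 0 := fun h => hnc (x := 0) (y := 1) (z := 3) (by decide) (by decide) (by decide)
    (A 0) (A 1) (by rw [e0, e1, ← hA]; conv_lhs => rw [coord A, h, zero_smul, add_zero])
  have C0 : C' 0 ≠ 0 := fun h => hnc (x := 1) (y := 2) (z := 4) (by decide) (by decide) (by decide)
    (C' 1) (C' 2) (by rw [e1, e2, ← hC]; conv_lhs => rw [coord C', h, zero_smul, zero_add])
  have C1 : C' 1 ≠ 0 := fun h => hnc (x := 0) (y := 2) (z := 4) (by decide) (by decide) (by decide)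
    (C' 0) (C' 2) (by rw [e0, e2, ← hC]; conv_lhs => rw [coord C', h, zero_smul, add_zero])
  have C2 : C' 2 ≠ 0 := fun h => hnc (x := 0) (y := 1) (z := 4) (by decide) (by decide) (by decide)
    (C' 0) (C' 1) (by rw [e0, e1, ← hC]; conv_lhs => rw [coord C', h, zero_smul, add_zero])
  have D01 : A 1 * C' 0 - A 0 * C' 1 ≠ 0 := fun h => hnc (x := 2) (y := 3) (z := 4) (by decide)
    (by decide) (by decide) (C' 2 - C' 0 / A 0 * A 2) (C' 0 / A 0) (by
      rw [e2, ← hA, ← hC]
      funext i; fin_cases i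
      · simp [A0]
      · simp; field_simp; linear_combination -h
      · simp)
  have D12 : A 2 * C' 1 - A 1 * C' 2 ≠ 0 := fun h => hnc (x := 0) (y := 3) (z := 4) (by decide)
    (by decide) (by decide) (C' 0 - C' 1 / A 1 * A 0) (C' 1 / A 1) (by
      rw [e0, ← hA, ← hC]
      funext i; fin_cases i
      · simp
      · simp [A1]
      · simp; field_simp; linear_combination -h)
  have D20 : A 0 * C' 2 - A 2 * C' 0 ≠ 0 := fun h => hnc (x := 1) (y := 3) (z := 4) (by decide)
    (by decide) (by decide) (C' 1 - C' 2 / A 2 * A 1) (C' 2 / A 2) (by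
      rw [e1, ← hA, ← hC]
      funext i; fin_cases i
      · simp; field_simp; linear_combination -h
      · simp
      · simp [A2])
  obtain ⟨T, hT⟩ := exists_conic_change (A 2 * C' 2 * (A 1 * C' 0 - A 0 * C' 1))
    (A 0 * C' 0 * (A 2 * C' 1 - A 1 * C' 2)) (A 1 * C' 1 * (A 0 * C' 2 - A 2 * C' 0))
    (mul_ne_zero (mul_ne_zero A2 C2) D01) (mul_ne_zero (mul_ne_zero A0 C0) D12)
    (mul_ne_zero (mul_ne_zero A1 C1) D20)
  obtain ⟨hf', hsq', hv', hs'⟩ := transport hf hsq hv hs (T.symm.trans M)
  have hon : ∀ x : Fin 5, eval ((T.symm.trans M).symm (v (p x))) (conic (k := k)) = 0 := by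
    intro x
    show eval (T (M.symm (v (p x)))) conic = 0
    rw [hT]
    fin_cases x
    · rw [show (⟨0, by norm_num⟩ : Fin 5) = 0 from rfl, e0]; simp
    · rw [show (⟨1, by norm_num⟩ : Fin 5) = 1 from rfl, e1]; simp
    · rw [show (⟨2, by norm_num⟩ : Fin 5) = 2 from rfl, e2]; simp
    · rw [show (⟨3, by norm_num⟩ : Fin 5) = 3 from rfl, ← hA]; ring
    · rw [show (⟨4, by norm_num⟩ : Fin 5) = 4 from rfl, ← hC]; ring
  have hdvd := conic_factor hf' (hv'.comp p hp) (fun x => hs' (p x)) hon (by simp)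
  have h := card_le_of_conic_dvd (m := 2) hf' hsq' hdvd bound_two hv' hs'
  simp at h
  omega

end Groth.Agent.QuarticSing
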